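import Groth.Agent.FrobLCI.Avramov.Complete
import Groth.Agent.Ega4Algebra2.CompletedFibres
import Groth.Agent.Ega4Algebra2.CplQuot
import Groth.Agent.Ega4Algebra1.FormallyEquidim

/-!
Avramov: complete intersections along flat local maps.
-/

universe u

open IsLocalRing

namespace Groth.FrobLCI.Avramov

/-- Being a complete intersection only depends on the completion. -/
theorem isCompleteIntersection_cpl_iff (A : Type u) [CommRing A] [IsNoetherianRing A] [IsLocalRing A] :
    Pi1.IsCompleteIntersection (EGA4.Cpl A) ↔ Pi1.IsCompleteIntersection A := by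
  have := Groth.Ega4Algebra1.isLocalRing_cpl_complete A
  let e : EGA4.Cpl A ≃+* AdicCompletion (maximalIdeal (EGA4.Cpl A)) (EGA4.Cpl A) :=
    (AdicCompletion.ofAlgEquiv (maximalIdeal (EGA4.Cpl A))).toRingEquiv
  constructor
  · rintro ⟨B, _, _, rs, h1, h2, ⟨f⟩⟩
    exact ⟨B, inferInstance, inferInstance, rs, h1, h2, ⟨e.trans f⟩⟩
  · rintro ⟨B, _, _, rs, h1, h2, ⟨f⟩⟩
    exact ⟨B, inferInstance, inferInstance, rs, h1, h2, ⟨e.symm.trans f⟩⟩

/-- **Avramov's theorem**: along a flat local map, the complete intersection property of the target is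
that of the source and of the closed fibre. -/
theorem isCompleteIntersection_iff_of_flat (A B : Type u) [CommRing A] [CommRing B] [IsNoetherianRing A]
    [IsNoetherianRing B] [IsLocalRing A] [IsLocalRing B] [Algebra A B] [IsLocalHom (algebraMap A B)]
    [Module.Flat A B] [IsLocalRing (B ⧸ (maximalIdeal A).map (algebraMap A B))] :
    Pi1.IsCompleteIntersection B ↔
      Pi1.IsCompleteIntersection A ∧
        Pi1.IsCompleteIntersection (B ⧸ (maximalIdeal A).map (algebraMap A B)) := by
  have := Groth.Ega4b.isNoetherianRing_cpl A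
  have := Groth.Ega4b.isNoetherianRing_cpl B
  have := Groth.Ega4Algebra1.isLocalRing_cpl_complete A
  have := Groth.Ega4Algebra1.isLocalRing_cpl_complete B
  letI : Algebra (EGA4.Cpl A) (EGA4.Cpl B) := (Groth.Ega4b.cplHom A B).toAlgebra
  have : IsScalarTower A (EGA4.Cpl A) (EGA4.Cpl B) :=
    IsScalarTower.of_algebraMap_eq fun a => (Groth.Ega4b.cplHom_algebraMap A B a).symm
  have := Groth.Ega4b.flat_cplHom A B
  have := Groth.Ega4b.isLocalHom_cpl A B
  have hmax : (maximalIdeal (EGA4.Cpl A)).map (algebraMap (EGA4.Cpl A) (EGA4.Cpl B)) =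
      (maximalIdeal A).map (algebraMap A (EGA4.Cpl B)) := by
    rw [AdicCompletion.maximalIdeal_eq_map, Ideal.map_map, ← IsScalarTower.algebraMap_eq]
  have hloc : IsLocalHom (algebraMap (EGA4.Cpl A) (EGA4.Cpl B)) := by
    refine ((IsLocalRing.local_hom_TFAE _).out 2 0).mp ?_
    rw [hmax]
    exact IsLocalRing.map_maximalIdeal_le _
  set I := (maximalIdeal A).map (algebraMap A B)
  have hI : I ≠ ⊤ := ne_top_of_le_ne_top (maximalIdeal.isMaximal B).ne_top (IsLocalRing.map_maximalIdeal_le _)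
  have : Nontrivial (B ⧸ I) := Ideal.Quotient.nontrivial_iff.mpr hI
  let e : (EGA4.Cpl B ⧸ (maximalIdeal (EGA4.Cpl A)).map (algebraMap (EGA4.Cpl A) (EGA4.Cpl B))) ≃+*
      EGA4.Cpl (B ⧸ I) :=
    (Ideal.quotEquivOfEq (by
      rw [Groth.Ega4b.ker_cplQuot, hmax, Ideal.map_map, ← IsScalarTower.algebraMap_eq])).trans
      (RingHom.quotientKerEquivOfSurjective (Groth.Ega4b.cplQuot_surjective B I))
  have : IsLocalRing (EGA4.Cpl B ⧸ (maximalIdeal (EGA4.Cpl A)).map (algebraMap (EGA4.Cpl A) (EGA4.Cpl B))) :=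
    e.symm.isLocalRing
  obtain ⟨R, R', _, _, _, _, _, _, π, π', hflat, hπ, hπ', hcomm, hreg⟩ :=
    exists_presentation (algebraMap (EGA4.Cpl A) (EGA4.Cpl B))
  rw [← isCompleteIntersection_cpl_iff B, ← isCompleteIntersection_cpl_iff A,
    ← isCompleteIntersection_cpl_iff (B ⧸ I),
    iff_of_presentation π π' hπ hπ' hcomm (hregF := hreg)]
  exact and_congr_right fun _ => ⟨Groth.CI.isCompleteIntersection_of_ringEquiv e,
    Groth.CI.isCompleteIntersection_of_ringEquiv e.symm⟩

end Groth.FrobLCI.Avramov
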