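import Groth.Agent.FrobLCI.Diag.FibreGlobalDim
import Groth.Agent.EtaleAlgebra.TorDimAscend
import Groth.Agent.Ega4Algebra1.RegularLocal
import Mathlib

/-!
Projective dimension can be tested on the closed fibre for modules flat over the base.
-/

universe u

open TensorProduct IsLocalRing
open Groth.Ega4Algebra1

namespace Groth.FrobLCI.Avramov

/-- Finite projective dimension gives finite tor dimension. -/
theorem hasTorDimLE_of_pdLT (S : Type u) [CommRing S] :
    ∀ (n : ℕ) (M : Type u) [AddCommGroup M] [Module S M], PdLT S M (n + 1) → DRing.HasTorDimLE S n M := by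
  intro n
  induction n with
  | zero =>
    intro M _ _ h
    rw [PdLT.one_iff] at h
    exact Groth.EtaleAlgebra.hasTorDimLE_of_flat 0 M
  | succ n ih =>
    intro M _ _ h
    let f : (M →₀ S) →ₗ[S] M := Finsupp.linearCombination S id
    have hf : Function.Surjective f := fun x => ⟨Finsupp.single x 1, by simp [f]⟩
    exact Groth.EtaleAlgebra.hasTorDimLE_cokernel (LinearMap.ker f).subtype f Subtype.val_injective
      (LinearMap.exact_subtype_ker_map f) hf (ih _ ((PdLT.ker_iff f hf n).1 h))

variable (A S : Type u) [CommRing A] [CommRing S] [IsLocalRing A] [IsLocalRing S] [IsNoetherianRing S]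
  [Algebra A S] [IsLocalHom (algebraMap A S)]

/-- Nakayama: a finite module with zero closed fibre is zero. -/
theorem subsingleton_of_tensor (X : Type u) [AddCommGroup X] [Module S X] [Module.Finite S X] [Module A X]
    [IsScalarTower A S X] (h : Subsingleton ((ResidueField A) ⊗[A] X)) : Subsingleton X := by
  have h1 : Subsingleton (X ⧸ (maximalIdeal A • ⊤ : Submodule A X)) :=
    (TensorProduct.quotTensorEquivQuotSMul X (maximalIdeal A)).symm.toEquiv.subsingleton_congr.mpr h
  rw [Submodule.Quotient.subsingleton_iff] at h1
  rw [← Submodule.subsingleton_iff S]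
  refine subsingleton_of_bot_eq_top (Submodule.eq_bot_of_le_smul_of_le_jacobson_bot (maximalIdeal S)
    (⊤ : Submodule S X) Module.Finite.fg_top ?_ (maximalIdeal_le_jacobson ⊥)).symm
  intro x _
  have hx : x ∈ (maximalIdeal A • ⊤ : Submodule A X) := by rw [h1]; exact Submodule.mem_top
  refine Submodule.smul_induction_on hx (fun a ha y _ => ?_) fun a b ha hb => Submodule.add_mem _ ha hb
  rw [← algebraMap_smul S a y]
  exact Submodule.smul_mem_smul (IsLocalRing.map_maximalIdeal_le _ (Ideal.mem_map_of_mem _ ha)) Submodule.mem_top

/-- A finite module, flat over the base, whose closed fibre has projective dimension `≤ n` over the fibre,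
has projective dimension `≤ n`. -/
theorem pdLT_of_fibre (F : Type u) [CommRing F] [IsLocalRing F] [Algebra A F] [Algebra S F]
    [IsScalarTower A S F] [Algebra (ResidueField A) F] [IsScalarTower A (ResidueField A) F]
    [Algebra.IsPushout A (ResidueField A) S F] [Module.Flat A S] (hSF : Function.Surjective (algebraMap S F)) :
    ∀ (n : ℕ) (M : Type u) [AddCommGroup M] [Module S M] [Module.Finite S M] [Module A M] [IsScalarTower A S M]
      [Module.Flat A M], PdLT F (F ⊗[S] M) (n + 1) → PdLT S M (n + 1) := by
  classical
  intro n
  induction n with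
  | zero =>
    intro M _ _ _ _ _ _ h
    rw [PdLT.one_iff] at h ⊢
    have : Module.Free F (F ⊗[S] M) := Module.free_of_flat_of_isLocalRing
    let b := Module.finBasis F (F ⊗[S] M)
    choose v hv using fun i => TensorProduct.mk_surjective S M F hSF (b i)
    let f := Fintype.linearCombination S v
    have hfb : ∀ z : F ⊗[S] M, z ∈ LinearMap.range (f.baseChange F) := by
      intro z
      rw [← b.sum_repr z]
      refine Submodule.sum_mem _ fun i _ => Submodule.smul_mem _ _
        ⟨(1 : F) ⊗ₜ Pi.single i 1, ?_⟩
      rw [LinearMap.baseChange_tmul, Fintype.linearCombination_apply_single, one_smul]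
      exact hv i
    have hf : Function.Surjective f := by
      rw [← LinearMap.range_eq_top, ← Submodule.Quotient.subsingleton_iff]
      refine subsingleton_of_tensor A S _ ?_
      refine (Algebra.IsPushout.cancelBaseChange A (ResidueField A) S F (M ⧸ LinearMap.range f)).toEquiv.subsingleton_congr.mp ?_
      refine subsingleton_of_forall_eq 0 fun z => ?_
      obtain ⟨z, rfl⟩ := LinearMap.lTensor_surjective F (Submodule.mkQ_surjective (LinearMap.range f)) z
      obtain ⟨w, rfl⟩ := hfb z
      show (LinearMap.range f).mkQ.lTensor F (f.lTensor F w) = 0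
      rw [← LinearMap.comp_apply, ← LinearMap.lTensor_comp, LinearMap.range_mkQ_comp, LinearMap.lTensor_zero,
        LinearMap.zero_apply]
    have : Module.Flat A ((Fin (Module.finrank F (F ⊗[S] M))) → S) := Module.Flat.trans A S _
    obtain ⟨-, ⟨e⟩⟩ := Groth.FrobLCI.Diag.baseChange_step A (ResidueField A) S F
      (X := LinearMap.ker f) (LinearMap.ker f).subtype f Subtype.val_injective hf (LinearMap.exact_subtype_ker_map f)
    have hsurjF : Function.Surjective (f.baseChange F) := fun z => hfb z
    have hker : LinearMap.ker (f.baseChange F) = ⊥ := by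
      rw [LinearMap.ker_eq_bot]
      let c : (Fin (Module.finrank F (F ⊗[S] M)) → F) ≃ₗ[F] F ⊗[S] (Fin (Module.finrank F (F ⊗[S] M)) → S) :=
        (TensorProduct.piScalarRight S F F _).symm
      have h1 : Function.Injective ((f.baseChange F).comp c.toLinearMap) := by
        have h2 := OrzechProperty.injective_of_surjective_endomorphism
          (b.equivFun.toLinearMap.comp ((f.baseChange F).comp c.toLinearMap))
          (b.equivFun.surjective.comp (hsurjF.comp c.surjective))
        exact fun x y hxy => h2 (congrArg b.equivFun hxy)
      intro x y hxy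
      obtain ⟨x, rfl⟩ := c.surjective x
      obtain ⟨y, rfl⟩ := c.surjective y
      exact congrArg c (h1 hxy)
    have hK : Subsingleton (LinearMap.ker f) := by
      refine subsingleton_of_tensor A S _ ?_
      refine (Algebra.IsPushout.cancelBaseChange A (ResidueField A) S F (LinearMap.ker f)).toEquiv.subsingleton_congr.mp ?_
      have : Subsingleton (LinearMap.ker (f.baseChange F)) := by rw [hker]; infer_instance
      exact e.toEquiv.subsingleton_congr.mpr this
    have hinj : Function.Injective f := LinearMap.ker_eq_bot.mp (Submodule.subsingleton_iff_eq_bot.mp hK)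
    exact Module.Projective.of_equiv (LinearEquiv.ofBijective f ⟨hinj, hf⟩)
  | succ n ih =>
    intro M _ _ _ _ _ _ h
    obtain ⟨r, f, hf⟩ := Module.Finite.exists_fin' S M
    have : Module.Flat A (Fin r → S) := Module.Flat.trans A S _
    obtain ⟨hflat, ⟨e⟩⟩ := Groth.FrobLCI.Diag.baseChange_step A (ResidueField A) S F
      (X := LinearMap.ker f) (LinearMap.ker f).subtype f Subtype.val_injective hf (LinearMap.exact_subtype_ker_map f)
    exact (PdLT.ker_iff f hf n).2
      (ih (LinearMap.ker f) (((PdLT.ker_iff (f.baseChange F) (LinearMap.lTensor_surjective F hf) n).1 h).of_equiv e.symm))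

/-- Over a regular closed fibre, finite modules flat over the base have finite tor dimension. -/
theorem hasFiniteTorDim_of_fibre (F : Type u) [CommRing F] [IsRegularLocalRing F] [Algebra A F] [Algebra S F]
    [IsScalarTower A S F] [Algebra (ResidueField A) F] [IsScalarTower A (ResidueField A) F]
    [Algebra.IsPushout A (ResidueField A) S F] [Module.Flat A S] (hSF : Function.Surjective (algebraMap S F))
    (M : Type u) [AddCommGroup M] [Module S M] [Module.Finite S M] [Module A M] [IsScalarTower A S M]
    [Module.Flat A M] : DRing.HasFiniteTorDim S M :=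
  ⟨_, hasTorDimLE_of_pdLT S _ M
    (pdLT_of_fibre A S F hSF _ M (pdLT_of_isRegularLocalRing F _ rfl (F ⊗[S] M)))⟩

end Groth.FrobLCI.Avramov
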