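import Groth.Agent.FrobLCI.Avramov.Presentation
import Groth.Agent.FrobLCI.Avramov.FibrePd
import Groth.Agent.S2200
import Groth.Agent.S5068
import Groth.Agent.Ega4Algebra2.RsopRegular
import Groth.Agent.Ega4Algebra2.SkFlat

/-!
Complete intersections along flat maps: the case with compatible regular presentations.
-/

universe u

open TensorProduct IsLocalRing RingTheory.Sequence

namespace Groth.FrobLCI.Avramov

/-- A list generates with at most its length. -/
theorem spanFinrank_ofList_le {R : Type u} [CommRing R] (l : List R) : (Ideal.ofList l).spanFinrank ≤ l.length := by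
  classical
  rw [Ideal.ofList, show {r | r ∈ l} = (l.toFinset : Set R) by ext; simp]
  refine (Submodule.spanFinrank_span_le_ncard_of_finite l.toFinset.finite_toSet).trans ?_
  rw [Set.ncard_coe_finset]
  exact l.toFinset_card_le

open CategoryTheory in
/-- Tor dimension is invariant under isomorphism. -/
theorem hasTorDimLE_of_equiv {S M N : Type u} [CommRing S] [AddCommGroup M] [Module S M] [AddCommGroup N]
    [Module S N] (e : M ≃ₗ[S] N) {n : ℕ} (h : DRing.HasTorDimLE S n M) : DRing.HasTorDimLE S n N := by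
  intro P _ _ p hp
  have := h P p hp
  exact ((((CategoryTheory.Tor (ModuleCat.{u} S) p).mapIso e.toModuleIso).app (ModuleCat.of S P)).toLinearEquiv
    ).toEquiv.subsingleton_congr.mp this

/-- Weak regularity descends along faithfully flat maps. -/
theorem isWeaklyRegular_of_map (R R' : Type u) [CommRing R] [CommRing R'] [Algebra R R']
    [Module.FaithfullyFlat R R'] {a : ℕ} (h : Fin a → R)
    (hreg : IsWeaklyRegular R' (List.ofFn fun i => algebraMap R R' (h i))) : IsWeaklyRegular R (List.ofFn h) := by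
  rw [Groth.Ega4b.isWeaklyRegular_ofFn_iff] at hreg ⊢
  intro k y hy
  have himg : (Ideal.span (h '' {l | l < k})).map (algebraMap R R') =
      Ideal.span ((fun i => algebraMap R R' (h i)) '' {l | l < k}) := by
    rw [Ideal.map_span, Set.image_image]
  have h1 := Ideal.mem_map_of_mem (algebraMap R R') hy
  rw [himg, map_mul] at h1
  have h2 := hreg k _ h1
  rw [← himg] at h2
  rw [← Ideal.comap_map_eq_self_of_faithfullyFlat (B := R') (Ideal.span (h '' {l | l < k})), Ideal.mem_comap]
  exact h2

/-- Minimal generators stay minimal along faithfully flat local maps. -/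
theorem minimal_map (R R' : Type u) [CommRing R] [CommRing R'] [IsLocalRing R] [IsLocalRing R']
    [IsNoetherianRing R] [IsNoetherianRing R'] [Algebra R R'] [IsLocalHom (algebraMap R R')] [Module.Flat R R'] {a : ℕ} (h : Fin a → R)
    (hmin : Groth.Ega4b.Minimal h) : Groth.Ega4b.Minimal fun i => algebraMap R R' (h i) := by
  intro c hc
  obtain ⟨d, hd, hdc⟩ := Groth.Ega4b.exists_coeff_mem_mul hc
  have hrel : ∑ i, h i • (c i - d i) = (0 : R') := by
    simp only [Algebra.smul_def, mul_sub, Finset.sum_sub_distrib]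
    rw [sub_eq_zero]
    simp_rw [mul_comm (algebraMap R R' (h _))]
    exact hdc.symm
  obtain ⟨K, α, y, hy, hα⟩ := (Module.Flat.iff_forall_isTrivialRelation (R := R) (M := R')).mp inferInstance hrel
  intro i
  have hm : ∀ k, α i k ∈ maximalIdeal R := fun k =>
    hmin (fun l => α l k) (by
      rw [show ∑ l, α l k * h l = 0 from (Finset.sum_congr rfl fun l _ => mul_comm _ _).trans (hα k)]
      exact Ideal.zero_mem _) i
  rw [show c i = (c i - d i) + d i by ring, show c i - d i = _ from hy i]
  refine Ideal.add_mem _ (Ideal.sum_mem _ fun k _ => ?_) (hd i)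
  rw [Algebra.smul_def]
  exact Ideal.mul_mem_right _ _ (IsLocalRing.map_maximalIdeal_le _ (Ideal.mem_map_of_mem _ (hm k)))

/-- If the extension of an ideal is generated by a regular sequence, so is the ideal. -/
theorem exists_regular_of_map (R R' : Type u) [CommRing R] [CommRing R'] [IsLocalRing R] [IsLocalRing R']
    [IsNoetherianRing R] [IsNoetherianRing R'] [Algebra R R'] [IsLocalHom (algebraMap R R')] [Module.Flat R R']
    (I : Ideal R) (hI : I ≠ ⊤)
    (hreg : ∃ rs : List R', Ideal.ofList rs = I.map (algebraMap R R') ∧ IsRegular R' rs) :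
    ∃ rs : List R, Ideal.ofList rs = I ∧ IsRegular R rs := by
  obtain ⟨fs, hfs, hfreg⟩ := hreg
  obtain ⟨a, h, hhI, hspan, hmin⟩ := Groth.Ega4b.exists_minimal_complement (Fin.elim0 : Fin 0 → R) I I (by simp)
  have hI' : Ideal.span (Set.range h) = I := by
    rw [← hspan, Fin.elim0_append]
    exact congrArg Ideal.span ((finCongr (Nat.zero_add a)).surjective.range_comp h).symm
  have hmin' : Groth.Ega4b.Minimal h := by
    intro c hc i
    rw [hI'] at hc
    have := hmin (c ∘ Fin.cast (Nat.zero_add a)) (by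
      rw [Fin.elim0_append]
      exact ((finCongr (Nat.zero_add a)).sum_comp fun j => c j * h j).symm ▸ hc) i
    convert this using 2
    exact congrArg c (Fin.ext (by simp))
  have hIm : I ≤ maximalIdeal R := IsLocalRing.le_maximalIdeal hI
  have hspan' : Ideal.span (Set.range fun i => algebraMap R R' (h i)) = Ideal.ofList fs := by
    rw [hfs, ← hI', Ideal.map_span, ← Set.range_comp]
    rfl
  have := Module.FaithfullyFlat.of_flat_of_isLocalHom (A := R) (B := R')
  have hw : IsWeaklyRegular R (List.ofFn h) := by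
    refine isWeaklyRegular_of_map R R' h (Groth.Ega4b.isWeaklyRegular_of_minimal (fun i => fs.get i) (fun i => ?_)
      (by rw [List.ofFn_get]; exact hfreg.toIsWeaklyRegular) _
      (by rw [hspan', ← Groth.Ega4b.ofList_ofFn_eq_span (fun i => fs.get i), List.ofFn_get])
      (minimal_map R R' h hmin'))
    have hle : I.map (algebraMap R R') ≤ maximalIdeal R' :=
      (Ideal.map_mono hIm).trans (IsLocalRing.map_maximalIdeal_le _)
    exact hle (hfs ▸ Ideal.subset_span (List.get_mem fs i))
  refine ⟨List.ofFn h, by rw [Groth.Ega4b.ofList_ofFn_eq_span, hI'],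
    (IsLocalRing.isRegular_iff_isWeaklyRegular_of_subset_maximalIdeal fun x hx => ?_).mpr hw⟩
  refine hIm (hI' ▸ Ideal.subset_span ?_)
  exact List.mem_ofFn.mp hx

/-- Avramov's theorem given compatible regular presentations. -/
theorem iff_of_presentation {A B R R' : Type u} [CommRing A] [CommRing B] [CommRing R] [CommRing R']
    [IsLocalRing A] [IsLocalRing B] [IsNoetherianRing A] [IsNoetherianRing B] [IsRegularLocalRing R]
    [IsRegularLocalRing R'] [Algebra A B] [IsLocalHom (algebraMap A B)] [Module.Flat A B] [Algebra R R']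
    [IsLocalHom (algebraMap R R')] [Module.Flat R R'] (π : R →+* A) (π' : R' →+* B) (hπ : Function.Surjective π)
    (hπ' : Function.Surjective π') (hcomm : π'.comp (algebraMap R R') = (algebraMap A B).comp π)
    [hregF : IsRegularLocalRing (R' ⧸ (maximalIdeal R).map (algebraMap R R'))]
    [IsLocalRing (B ⧸ (maximalIdeal A).map (algebraMap A B))] :
    Pi1.IsCompleteIntersection B ↔
      Pi1.IsCompleteIntersection A ∧
        Pi1.IsCompleteIntersection (B ⧸ (maximalIdeal A).map (algebraMap A B)) := by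
  classical
  set I := RingHom.ker π with hI
  set J := RingHom.ker π' with hJ
  set I' := I.map (algebraMap R R') with hI'
  have hI'J : I' ≤ J := Ideal.map_le_iff_le_comap.mpr fun x hx => by
    rw [Ideal.mem_comap, hJ, RingHom.mem_ker, ← RingHom.comp_apply, hcomm, RingHom.comp_apply,
      RingHom.mem_ker.mp hx, map_zero]
  have hItop : I ≠ ⊤ := RingHom.ker_ne_top π
  have hJtop : J ≠ ⊤ := RingHom.ker_ne_top π'
  have hI'top : I' ≠ ⊤ := ne_top_of_le_ne_top hJtop hI'J
  have : IsLocalRing (R' ⧸ I') :=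
    have : Nontrivial (R' ⧸ I') := Ideal.Quotient.nontrivial_iff.mpr hI'top
    IsLocalRing.of_surjective' (Ideal.Quotient.mk I') Ideal.Quotient.mk_surjective
  let ψ : A →+* R' ⧸ I' :=
    (Ideal.quotientMap I' (algebraMap R R') Ideal.le_comap_map).comp
      (RingHom.quotientKerEquivOfSurjective hπ).symm.toRingHom
  have hψ : ∀ r, ψ (π r) = Ideal.Quotient.mk I' (algebraMap R R' r) := fun r => by
    simp only [ψ, RingHom.comp_apply, RingEquiv.toRingHom_eq_coe, RingEquiv.coe_toRingHom]
    rw [show (RingHom.quotientKerEquivOfSurjective hπ).symm (π r) = Ideal.Quotient.mk I r from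
      (RingEquiv.symm_apply_eq _).mpr rfl]
    rfl
  letI algS : Algebra A (R' ⧸ I') := ψ.toAlgebra
  letI algSB : Algebra (R' ⧸ I') B := (Ideal.Quotient.lift I' π' fun x hx => hI'J hx).toAlgebra
  have hSB : Function.Surjective (algebraMap (R' ⧸ I') B) := fun b => by
    obtain ⟨x, rfl⟩ := hπ' b
    exact ⟨Ideal.Quotient.mk I' x, rfl⟩
  have : IsScalarTower A (R' ⧸ I') B := IsScalarTower.of_algebraMap_eq fun a => by
    obtain ⟨r, rfl⟩ := hπ a
    rw [RingHom.algebraMap_toAlgebra ψ, hψ, ← RingHom.comp_apply, ← hcomm]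
    rfl
  have hlocπ : IsLocalHom π := IsLocalHom.of_surjective π hπ
  have hmA : (maximalIdeal A).map (algebraMap A (R' ⧸ I')) =
      ((maximalIdeal R).map (algebraMap R R')).map (Ideal.Quotient.mk I') := by
    rw [← IsLocalRing.map_maximalIdeal_of_surjective π hπ, Ideal.map_map, Ideal.map_map,
      RingHom.algebraMap_toAlgebra ψ]
    exact congrArg (fun g => (maximalIdeal R).map g) (RingHom.ext hψ)
  have hlocS : IsLocalHom (algebraMap A (R' ⧸ I')) := by
    refine ((IsLocalRing.local_hom_TFAE (algebraMap A (R' ⧸ I'))).out 2 0).mp ?_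
    rw [hmA]
    refine (Ideal.map_mono (IsLocalRing.map_maximalIdeal_le _)).trans ?_
    exact (IsLocalRing.map_maximalIdeal_of_surjective _ Ideal.Quotient.mk_surjective).le
  have hflatS : Module.Flat A (R' ⧸ I') := by
    have := Groth.Ega4b.flat_quotient_map (R := R) (S := R') I
    let σ := RingHom.quotientKerEquivOfSurjective hπ
    exact Groth.Ega4b.flat_of_semilinear σ (AddEquiv.refl (R' ⧸ I')) fun r x => by
      obtain ⟨r, rfl⟩ := Ideal.Quotient.mk_surjective r
      obtain ⟨x, rfl⟩ := Ideal.Quotient.mk_surjective x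
      show Ideal.Quotient.mk I r • Ideal.Quotient.mk I' x = ψ (π r) * Ideal.Quotient.mk I' x
      rw [hψ, Algebra.smul_def, Ideal.Quotient.algebraMap_quotient_map_quotient]
  -- the closed fibre of `R' / I'`
  have hle : I' ≤ (maximalIdeal R).map (algebraMap R R') := Ideal.map_mono (IsLocalRing.le_maximalIdeal hItop)
  let eF : ((R' ⧸ I') ⧸ (maximalIdeal A).map (algebraMap A (R' ⧸ I'))) ≃+*
      R' ⧸ (maximalIdeal R).map (algebraMap R R') :=
    (Ideal.quotEquivOfEq hmA).trans (DoubleQuot.quotQuotEquivQuotOfLE hle)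
  have hregS : IsRegularLocalRing ((R' ⧸ I') ⧸ (maximalIdeal A).map (algebraMap A (R' ⧸ I'))) :=
    IsRegularLocalRing.of_ringEquiv eF.symm
  -- dimensions
  obtain ⟨dA, hdA⟩ := Groth.CI.exists_nat_ringKrullDim A
  obtain ⟨dF, hdF⟩ := Groth.CI.exists_nat_ringKrullDim ((R' ⧸ I') ⧸ (maximalIdeal A).map (algebraMap A (R' ⧸ I')))
  obtain ⟨dG, hdG⟩ := Groth.CI.exists_nat_ringKrullDim (B ⧸ (maximalIdeal A).map (algebraMap A B))
  obtain ⟨dR, hdR⟩ := Groth.CI.exists_nat_ringKrullDim R
  have hdimS : ringKrullDim (R' ⧸ I') = ((dA + dF : ℕ) : WithBot ℕ∞) := by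
    rw [Groth.Calg4.ringKrullDim_eq_add_of_flat A (R' ⧸ I'), hdA, hdF, Nat.cast_add]
  have hdimB : ringKrullDim B = ((dA + dG : ℕ) : WithBot ℕ∞) := by
    rw [Groth.Calg4.ringKrullDim_eq_add_of_flat A B, hdA, hdG, Nat.cast_add]
  have hdimR' : ringKrullDim R' = ((dR + dF : ℕ) : WithBot ℕ∞) := by
    rw [Groth.Calg4.ringKrullDim_eq_add_of_flat R R', hdR, ← ringKrullDim_eq_of_ringEquiv eF, hdF, Nat.cast_add]
  have hdimRI : ringKrullDim (R ⧸ I) = ringKrullDim A :=
    ringKrullDim_eq_of_ringEquiv (RingHom.quotientKerEquivOfSurjective hπ)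
  have hdimR'J : ringKrullDim (R' ⧸ J) = ringKrullDim B :=
    ringKrullDim_eq_of_ringEquiv (RingHom.quotientKerEquivOfSurjective hπ')
  -- the map of closed fibres
  set mS := (maximalIdeal A).map (algebraMap A (R' ⧸ I')) with hmS
  set mB := (maximalIdeal A).map (algebraMap A B) with hmB
  have hmap : mS.map (algebraMap (R' ⧸ I') B) = mB := by
    rw [hmS, Ideal.map_map, ← IsScalarTower.algebraMap_eq]
  let φ : ((R' ⧸ I') ⧸ mS) →+* B ⧸ mB :=
    Ideal.quotientMap mB (algebraMap (R' ⧸ I') B) (Ideal.map_le_iff_le_comap.mp hmap.le)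
  have hφ : Function.Surjective φ := Ideal.quotientMap_surjective hSB
  rw [Groth.CI.isCompleteIntersection_iff_of_surjective π' hπ',
    Groth.CI.isCompleteIntersection_iff_of_surjective π hπ,
    Groth.CI.isCompleteIntersection_iff_of_surjective φ hφ]
  set K := RingHom.ker (algebraMap (R' ⧸ I') B) with hK
  have hKJ : K = J.map (Ideal.Quotient.mk I') := Ideal.ker_quotient_lift _ _
  have hKtop : K ≠ ⊤ := RingHom.ker_ne_top _
  have hdimSK : ringKrullDim ((R' ⧸ I') ⧸ K) = ringKrullDim B :=
    ringKrullDim_eq_of_ringEquiv (RingHom.quotientKerEquivOfSurjective hSB)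
  constructor
  · -- descent
    intro hB
    letI algQ : Algebra (R' ⧸ I') (R' ⧸ J) := (Ideal.Quotient.factor hI'J).toAlgebra
    have : IsScalarTower R' (R' ⧸ I') (R' ⧸ J) := IsScalarTower.of_algebraMap_eq fun x => rfl
    let e₀ : (R' ⧸ J) ≃+* B := RingHom.quotientKerEquivOfSurjective hπ'
    have hfd : DRing.HasFiniteTorDim (R' ⧸ I') (R' ⧸ J) := by
      letI : Algebra (R' ⧸ I') (ResidueField A ⊗[A] (R' ⧸ I')) := Algebra.TensorProduct.rightAlgebra
      let e₁ : ((R' ⧸ I') ⧸ mS) ≃+* ResidueField A ⊗[A] (R' ⧸ I') :=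
        (Algebra.TensorProduct.quotIdealMapEquivTensorQuot (R' ⧸ I') (maximalIdeal A)).toRingEquiv.trans
          (Algebra.TensorProduct.comm A (R' ⧸ I') (A ⧸ maximalIdeal A)).toRingEquiv
      have : IsRegularLocalRing (ResidueField A ⊗[A] (R' ⧸ I')) := IsRegularLocalRing.of_ringEquiv e₁
      have hsurj : Function.Surjective (algebraMap (R' ⧸ I') (ResidueField A ⊗[A] (R' ⧸ I'))) := by
        intro z
        induction z using TensorProduct.induction_on with
        | zero => exact ⟨0, map_zero _⟩
        | add x y hx hy =>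
          obtain ⟨a, rfl⟩ := hx
          obtain ⟨b, rfl⟩ := hy
          exact ⟨a + b, map_add _ _ _⟩
        | tmul k s =>
          obtain ⟨a, rfl⟩ := residue_surjective k
          refine ⟨a • s, ?_⟩
          show (1 : ResidueField A) ⊗ₜ[A] (a • s) = _
          rw [← TensorProduct.smul_tmul, ← Algebra.algebraMap_eq_smul_one]
          rfl
      have : Module.Finite (R' ⧸ I') B := Module.Finite.of_surjective (Algebra.linearMap _ B) hSB
      obtain ⟨n, hn⟩ := hasFiniteTorDim_of_fibre A (R' ⧸ I') (ResidueField A ⊗[A] (R' ⧸ I')) hsurj B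
      let e₂ : B ≃ₗ[R' ⧸ I'] (R' ⧸ J) :=
        (AlgEquiv.ofRingEquiv (f := e₀) fun x => by
          obtain ⟨x, rfl⟩ := Ideal.Quotient.mk_surjective x
          rfl : (R' ⧸ J) ≃ₐ[R' ⧸ I'] B).toLinearEquiv.symm
      exact ⟨n, hasTorDimLE_of_equiv e₂ hn⟩
    obtain ⟨hrI', rs, hrs, hrsreg⟩ := Groth.Agent.S2200.result I' J hI'J hJtop hfd hB
    refine ⟨exists_regular_of_map R R' I hItop hrI', (Groth.CI.exists_regular_iff _ (RingHom.ker_ne_top φ)).mpr ?_⟩
    have hb := ringKrullDim_add_length_eq_ringKrullDim_of_isRegular rs hrsreg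
    rw [hrs, ← hKJ, hdimSK, hdimB, hdimS] at hb
    have hker : RingHom.ker φ = K.map (Ideal.Quotient.mk mS) := by
      refine le_antisymm (fun z hz => ?_) (Ideal.map_le_iff_le_comap.mpr fun x hx => ?_)
      · obtain ⟨z, rfl⟩ := Ideal.Quotient.mk_surjective z
        have hz' : algebraMap (R' ⧸ I') B z ∈ mS.map (algebraMap (R' ⧸ I') B) := by
          rw [hmap]; exact Ideal.Quotient.eq_zero_iff_mem.mp (RingHom.mem_ker.mp hz)
        obtain ⟨d, hd, hdz⟩ := (Ideal.mem_map_iff_of_surjective _ hSB).mp hz'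
        rw [show Ideal.Quotient.mk mS z = Ideal.Quotient.mk mS (z - d) by
          rw [map_sub, Ideal.Quotient.eq_zero_iff_mem.mpr hd, sub_zero]]
        exact Ideal.mem_map_of_mem _ (by rw [hK, RingHom.mem_ker, map_sub, hdz, sub_self])
      · rw [Ideal.mem_comap, RingHom.mem_ker]
        show Ideal.Quotient.mk mB (algebraMap (R' ⧸ I') B x) = 0
        rw [RingHom.mem_ker.mp hx, map_zero]
    have hspan : (RingHom.ker φ).spanFinrank ≤ rs.length := by
      rw [hker, hKJ, ← hrs, Ideal.map_ofList]
      exact (spanFinrank_ofList_le _).trans (by rw [List.length_map])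
    rw [ringKrullDim_eq_of_ringEquiv (RingHom.quotientKerEquivOfSurjective hφ), hdG, hdF]
    norm_cast at hb ⊢
    omega
  · -- ascent
    rintro ⟨hA, hG⟩
    have hfib : Pi1.IsCompleteIntersection (EGA4.FibRing A B) :=
      (Groth.CI.isCompleteIntersection_iff_of_surjective φ hφ).mpr hG
    obtain ⟨rs, hrs, hrsreg, -⟩ := (Groth.Agent.S5068.result A (R' ⧸ I') B hregS hSB).mpr ⟨inferInstance, hfib⟩
    obtain ⟨fs, hfs, hfsreg⟩ := hA
    have hK' : Ideal.ofList rs ≤ maximalIdeal (R' ⧸ I') := hrs.le.trans (IsLocalRing.le_maximalIdeal hKtop)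
    have hb := ringKrullDim_add_length_eq_ringKrullDim_of_isRegular rs
      ((IsLocalRing.isRegular_iff_isWeaklyRegular_of_subset_maximalIdeal fun x hx => hK' (Ideal.subset_span hx)).mpr hrsreg)
    rw [hrs, hdimSK, hdimB, hdimS] at hb
    have ha := ringKrullDim_add_length_eq_ringKrullDim_of_isRegular fs hfsreg
    rw [hfs, ← hI, hdimRI, hdA, hdR] at ha
    obtain ⟨ts, rfl⟩ := List.map_surjective_iff.mpr Ideal.Quotient.mk_surjective rs
    have hspan : J.spanFinrank ≤ fs.length + ts.length := by
      have hJeq : J = Ideal.ofList (fs.map (algebraMap R R') ++ ts) := by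
        rw [Ideal.ofList_append, ← Ideal.map_ofList, hfs]
        refine (?_ : J = (Ideal.ofList ts) ⊔ I').trans (sup_comm _ _)
        have h2 := congrArg (Ideal.comap (Ideal.Quotient.mk I')) (hrs.trans hKJ)
        rw [← Ideal.map_ofList, Ideal.comap_map_quotientMk, Ideal.comap_map_quotientMk,
          sup_eq_right.mpr hI'J, sup_comm] at h2
        exact h2.symm
      rw [hJeq]
      exact (spanFinrank_ofList_le _).trans (by simp)
    refine (Groth.CI.exists_regular_iff J hJtop).mpr ?_
    rw [hdimR'J, hdimB, hdimR']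
    rw [List.length_map] at hb
    norm_cast at ha hb ⊢
    omega

end Groth.FrobLCI.Avramov
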