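import Groth.Agent.Calg2.CohenRing
import Groth.Agent.Calg1.CoefficientField
import Mathlib

/-!
Lifting coefficient rings along surjections of complete local rings.
-/

universe u

open IsLocalRing

namespace Groth.FrobLCI.Avramov

variable {Λ C B : Type u} [CommRing Λ] [CommRing C] [IsLocalRing C] [IsNoetherianRing C] [CommRing B]
  [IsLocalRing B] [IsNoetherianRing B]

omit [IsNoetherianRing C] in
/-- A congruence modulo all powers of the maximal ideal descends to an equality. -/
theorem eq_of_forall_sub_mem (π : C →+* B) (hπ : Function.Surjective π) {x : C} {b : B}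
    (h : ∀ c, π c = b → ∀ n : ℕ, x - c ∈ maximalIdeal C ^ n ⊔ RingHom.ker π) : π x = b := by
  obtain ⟨c, rfl⟩ := hπ b
  have hloc : IsLocalHom π := IsLocalHom.of_surjective π hπ
  rw [← sub_eq_zero, ← map_sub]
  have hmem : π (x - c) ∈ ⨅ n, maximalIdeal B ^ n := by
    rw [Ideal.mem_iInf]
    intro n
    obtain ⟨y, hy, z, hz, hyz⟩ := Submodule.mem_sup.mp (h c rfl n)
    rw [← hyz, map_add, RingHom.mem_ker.mp hz, add_zero]
    exact (Ideal.pow_right_mono (IsLocalRing.map_maximalIdeal_le π) n)
      (Ideal.map_pow π (maximalIdeal C) n ▸ Ideal.mem_map_of_mem π hy)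
  rwa [Ideal.iInf_pow_eq_bot_of_isLocalRing _ (maximalIdeal.isMaximal B).ne_top, Submodule.mem_bot] at hmem

/-- Cohen rings lift along surjections of complete local rings. -/
theorem exists_lift_cohen [IsAdicComplete (maximalIdeal C) C] (q : ℕ) [Fact q.Prime]
    (hreg : ∀ x : Λ, (q : Λ) * x = 0 → x = 0) [(Ideal.span {(q : Λ)}).IsMaximal]
    (π : C →+* B) (hπ : Function.Surjective π) (φ : Λ →+* B) (hq : (q : B) ∈ maximalIdeal B) :
    ∃ g : Λ →+* C, π.comp g = φ := by
  let J := RingHom.ker π
  let F : ℕ → Ideal C := fun n => J * maximalIdeal C ^ n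
  have hJ : J ≤ maximalIdeal C := IsLocalRing.le_maximalIdeal (RingHom.ker_ne_top π)
  have hqC : (q : C) ∈ maximalIdeal C := by
    rw [mem_maximalIdeal, mem_nonunits_iff]
    intro hu
    have := hu.map π
    rw [map_natCast] at this
    exact (mem_maximalIdeal _).mp hq this
  have hF0 : F 0 = J := by simp [F]
  let g₀ : Λ →+* C ⧸ F 0 :=
    ((RingHom.quotientKerEquivOfSurjective hπ).symm.trans (Ideal.quotEquivOfEq hF0.symm)).toRingHom.comp φ
  obtain ⟨g, hg⟩ := Groth.Calg2.CohenRing.exists_lift_filtration (p := q) hreg (maximalIdeal C) F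
    (fun n => Ideal.mul_mono_right (Ideal.pow_le_pow_right (Nat.le_succ n)))
    (fun n => Ideal.mul_le_right)
    (fun n => by
      show J * maximalIdeal C ^ n * (J * maximalIdeal C ^ n) ≤ J * maximalIdeal C ^ (n + 1)
      rw [mul_assoc]
      refine Ideal.mul_mono_right ?_
      rw [pow_succ]
      exact Ideal.mul_mono_right (Ideal.mul_le_left.trans hJ))
    (fun n x hx => by
      show (q : C) * x ∈ J * maximalIdeal C ^ (n + 1)
      rw [pow_succ', ← mul_assoc, mul_comm J (maximalIdeal C), mul_assoc]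
      exact Ideal.mul_mem_mul hqC hx) g₀
  refine ⟨g, RingHom.ext fun l => eq_of_forall_sub_mem π hπ fun c hc n => ?_⟩
  have := hg n l c ?_
  · rwa [hF0] at this
  · show _ = (Ideal.quotEquivOfEq hF0.symm) ((RingHom.quotientKerEquivOfSurjective hπ).symm (φ l))
    rw [show (RingHom.quotientKerEquivOfSurjective hπ).symm (φ l) = Ideal.Quotient.mk J c from
      (RingEquiv.symm_apply_eq _).mpr (by rw [← hc]; rfl), Ideal.quotEquivOfEq_mk]

/-- Fields of characteristic zero lift along surjections of complete local rings. -/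
theorem exists_lift_field [IsAdicComplete (maximalIdeal C) C] {k : Type u} [Field k] [CharZero k]
    (π : C →+* B) (hπ : Function.Surjective π) (φ : k →+* B) :
    ∃ g : k →+* C, π.comp g = φ := by
  let J := RingHom.ker π
  let F : ℕ → Ideal C := fun n => J * maximalIdeal C ^ n
  have hJ : J ≤ maximalIdeal C := IsLocalRing.le_maximalIdeal (RingHom.ker_ne_top π)
  have hF0 : F 0 = J := by simp [F]
  have hchar : CharZero (ResidueField B) := charZero_of_injective_ringHom ((residue B).comp φ).injective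
  let φQ : ℚ →+* C := IsLocalization.lift (M := nonZeroDivisors ℤ) (g := Int.castRingHom C)
    (fun y => by
      have hloc : IsLocalHom π := IsLocalHom.of_surjective π hπ
      rw [← isUnit_map_iff π]
      by_contra hu
      have h0 : residue B ((y : ℤ) : B) = 0 := Ideal.Quotient.eq_zero_iff_mem.mpr (by simpa using hu)
      rw [map_intCast, Int.cast_eq_zero] at h0
      exact nonZeroDivisors.coe_ne_zero y h0)
  letI : Algebra ℚ C := φQ.toAlgebra
  letI : Algebra ℚ k := DivisionRing.toRatAlgebra
  have := Groth.Calg1.formallySmooth_rat k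
  let g₀ : k →+* C ⧸ F 0 :=
    ((RingHom.quotientKerEquivOfSurjective hπ).symm.trans (Ideal.quotEquivOfEq hF0.symm)).toRingHom.comp φ
  have hdec : ∀ n, F (n + 1) ≤ F n := fun n => Ideal.mul_mono_right (Ideal.pow_le_pow_right (Nat.le_succ n))
  obtain ⟨g, hg⟩ := Groth.Calg2.CohenRing.exists_lift_filtration_of_step (maximalIdeal C) F hdec
    (fun n => Ideal.mul_le_right)
    (fun n g => by
      let π' : (C ⧸ F (n + 1)) →ₐ[ℚ] C ⧸ F n := Ideal.Quotient.factorₐ ℚ (hdec n)
      let g' : k →ₐ[ℚ] C ⧸ F n := AlgHom.mk g fun r => RingHom.congr_fun (RingHom.ext_rat (g.comp (algebraMap ℚ k)) _) r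
      have hnil : IsNilpotent (RingHom.ker (π' : (C ⧸ F (n + 1)) →+* C ⧸ F n)) := by
        refine ⟨2, ?_⟩
        rw [show RingHom.ker (π' : (C ⧸ F (n + 1)) →+* C ⧸ F n) = (F n).map (Ideal.Quotient.mk (F (n + 1))) from
          Ideal.Quotient.factor_ker (hdec n), ← Ideal.map_pow]
        refine Ideal.map_mk_eq_bot_of_le ?_
        show (J * maximalIdeal C ^ n) ^ 2 ≤ J * maximalIdeal C ^ (n + 1)
        rw [sq, mul_assoc]
        refine Ideal.mul_mono_right ?_
        rw [pow_succ]
        exact Ideal.mul_mono_right (Ideal.mul_le_left.trans hJ)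
      refine ⟨(Algebra.FormallySmooth.liftOfSurjective g' π' (Ideal.Quotient.factor_surjective (hdec n)) hnil).toRingHom, ?_⟩
      exact congrArg AlgHom.toRingHom (Algebra.FormallySmooth.comp_liftOfSurjective g' π' _ hnil)) g₀
  refine ⟨g, RingHom.ext fun l => eq_of_forall_sub_mem π hπ fun c hc n => ?_⟩
  have := hg n l c ?_
  · rwa [hF0] at this
  · show _ = (Ideal.quotEquivOfEq hF0.symm) ((RingHom.quotientKerEquivOfSurjective hπ).symm (φ l))
    rw [show (RingHom.quotientKerEquivOfSurjective hπ).symm (φ l) = Ideal.Quotient.mk J c from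
      (RingEquiv.symm_apply_eq _).mpr (by rw [← hc]; rfl), Ideal.quotEquivOfEq_mk]

end Groth.FrobLCI.Avramov
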