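import Groth.Agent.FrobLCI.Avramov.Flat
import Groth.Agent.FlatMorOne.LocalCriterion
import Groth.Agent.EtaleAlgebra.TorDimAscend
import Groth.Agent.CI.Locus

/-!
Avramov for maps: tor dimension over the base versus the presentation ring.
-/

universe u

open IsLocalRing RingTheory.Sequence CategoryTheory Groth.Ega4Algebra1
open scoped TensorProduct Pointwise

namespace Groth.FrobLCI.Avramov

variable (A S : Type u) [CommRing A] [CommRing S] [Algebra A S]

/-- Local criterion of flatness in terms of `Tor₁`. -/
theorem flat_of_tor_residue_one [IsLocalRing A] [IsLocalRing S] [IsNoetherianRing A] [IsNoetherianRing S]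
    [IsLocalHom (algebraMap A S)] (M : Type u) [AddCommGroup M] [Module S M] [Module.Finite S M]
    [Module A M] [IsScalarTower A S M] (h : Subsingleton (DRing.Tor A 1 M (ResidueField A))) :
    Module.Flat A M := by
  have h1 : Limits.IsZero (((CategoryTheory.Tor (ModuleCat.{u} A) 1).obj (ModuleCat.of A M)).obj
      (ModuleCat.of A (A ⧸ maximalIdeal A))) := ModuleCat.isZero_iff_subsingleton.2 h
  have h2 := (Groth.Calg6.isZero_tor_one_iff M (A ⧸ maximalIdeal A)).1 h1
  rw [Groth.Calg6.torZero_iff_of_presentation M (A ⧸ maximalIdeal A) (maximalIdeal A).mkQ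
    (Submodule.mkQ_surjective _), Submodule.ker_mkQ] at h2
  have h3 : Function.Injective ((maximalIdeal A).subtype.rTensor M) :=
    (LinearMap.lTensor_inj_iff_rTensor_inj _ _).mp h2
  have := Groth.FlatMorOne.flat_residue_quotient A ((A ⧸ maximalIdeal A) ⊗[A] M)
  exact Groth.FlatMorOne.flat_of_rTensor_injective (S := S) (maximalIdeal A)
    (Groth.FlatMorOne.map_le_jacobson_of_isLocalHom (maximalIdeal.isMaximal A).ne_top) h3

/-- Vanishing of high `Tor` against the residue field gives finite projective dimension over a flat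
algebra with regular closed fibre. -/
theorem exists_pdLT_of_tor [IsLocalRing A] [IsLocalRing S] [IsNoetherianRing A] [IsNoetherianRing S]
    [IsLocalHom (algebraMap A S)] [Module.Flat A S] (F : Type u) [CommRing F] [IsRegularLocalRing F] [Algebra A F]
    [Algebra S F] [IsScalarTower A S F] [Algebra (ResidueField A) F] [IsScalarTower A (ResidueField A) F]
    [Algebra.IsPushout A (ResidueField A) S F] (hSF : Function.Surjective (algebraMap S F)) :
    ∀ (n : ℕ) (M : Type u) [AddCommGroup M] [Module S M] [Module.Finite S M] [Module A M]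
      [IsScalarTower A S M], (∀ p, n < p → Subsingleton (DRing.Tor A p M (ResidueField A))) →
      ∃ m, PdLT S M (m + 1) := by
  intro n
  induction n with
  | zero =>
    intro M _ _ _ _ _ h
    have := flat_of_tor_residue_one A S M (h 1 Nat.one_pos)
    exact ⟨_, pdLT_of_fibre A S F hSF _ M (pdLT_of_isRegularLocalRing F _ rfl (F ⊗[S] M))⟩
  | succ n ih =>
    intro M _ _ _ _ _ h
    obtain ⟨k, f, hf⟩ := exists_surjective_fin S M
    have : Module.Flat A (Fin k → S) := Module.Flat.trans A S (Fin k → S)
    obtain ⟨m, hm⟩ := ih (LinearMap.ker f) fun p hp => ModuleCat.isZero_iff_subsingleton.1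
      (Groth.SGA7.TorSeq.isZero_tor_X₁
        (Groth.EtaleAlgebra.shortExact_mk ((LinearMap.ker f).subtype.restrictScalars A) (f.restrictScalars A)
          Subtype.val_injective (LinearMap.exact_subtype_ker_map f) hf)
        (ModuleCat.of A (ResidueField A)) p (ModuleCat.isZero_iff_subsingleton.2 (h (p + 1) (by omega)))
        (Groth.SGA7.TorSeq.isZero_tor_of_flat (ModuleCat.of A (Fin k → S)) (ModuleCat.of A (ResidueField A)) p
          (by omega)))
    exact ⟨m + 1, (PdLT.ker_iff f hf m).2 hm⟩

/-- A regular sequence of length `r` raises tor dimension over the base by at most `r`. -/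
theorem hasTorDimLE_quotient_regular (rs : List S) :
    ∀ (n : ℕ) (M : Type u) [AddCommGroup M] [Module S M] [Module A M] [IsScalarTower A S M],
      IsWeaklyRegular M rs → DRing.HasTorDimLE A n M →
      DRing.HasTorDimLE A (n + rs.length) (M ⧸ (Ideal.ofList rs • ⊤ : Submodule S M)) := by
  induction rs with
  | nil =>
    intro n M _ _ _ _ _ h
    exact hasTorDimLE_of_equiv (((Submodule.quotEquivOfEqBot _ (by
      rw [Ideal.ofList_nil]; exact Submodule.bot_smul _))).symm.restrictScalars A) h
  | cons r rs ih =>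
    intro n M _ _ _ _ hreg h
    obtain ⟨hr, hrs⟩ := (isWeaklyRegular_cons_iff M r rs).mp hreg
    have hx : Function.Exact ((LinearMap.lsmul S M r).restrictScalars A)
        ((Submodule.mkQ (r • ⊤ : Submodule S M)).restrictScalars A) := fun y => by
      rw [LinearMap.coe_restrictScalars, LinearMap.coe_restrictScalars, Submodule.mkQ_apply,
        Submodule.Quotient.mk_eq_zero, Submodule.mem_smul_pointwise_iff_exists]
      simp
    have hinj : Function.Injective ((LinearMap.lsmul S M r).restrictScalars A) := fun a b hab => hr hab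
    have hsurj : Function.Surjective ((Submodule.mkQ (r • ⊤ : Submodule S M)).restrictScalars A) := fun y => by
      obtain ⟨x, rfl⟩ := Submodule.mkQ_surjective _ y
      exact ⟨x, rfl⟩
    have hseq := Groth.EtaleAlgebra.shortExact_mk (R := A) (K := M) (F := M) (N := QuotSMulTop r M)
      ((LinearMap.lsmul S M r).restrictScalars A) ((Submodule.mkQ (r • ⊤ : Submodule S M)).restrictScalars A)
      hinj hx hsurj
    have h1 : DRing.HasTorDimLE A (n + 1) (QuotSMulTop r M) := fun P _ _ p hp => by
      obtain ⟨q, rfl⟩ : ∃ q, p = q + 1 := ⟨p - 1, by omega⟩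
      exact ModuleCat.isZero_iff_subsingleton.1 (Groth.EtaleAlgebra.isZero_tor_X₃
        hseq
        (ModuleCat.of A P) q (ModuleCat.isZero_iff_subsingleton.2 (h P (q + 1) (by omega)))
        (ModuleCat.isZero_iff_subsingleton.2 (h P q (by omega))))
    have h2 := hasTorDimLE_of_equiv
      ((Submodule.quotOfListConsSMulTopEquivQuotSMulTopInner M r rs).symm.restrictScalars A)
      (ih (n + 1) (QuotSMulTop r M) hrs h1)
    rwa [show n + 1 + rs.length = n + (r :: rs).length by simp; omega] at h2

omit [Algebra A S] in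
/-- A complete intersection modulo a regular sequence is a complete intersection. -/
theorem isCompleteIntersection_quotient_regular [IsLocalRing S] [IsNoetherianRing S]
    (hS : Pi1.IsCompleteIntersection S) (rs : List S) (hreg : IsRegular S rs)
    [IsLocalRing (S ⧸ Ideal.ofList rs)] : Pi1.IsCompleteIntersection (S ⧸ Ideal.ofList rs) := by
  obtain ⟨C, _, _, fs, hfmem, hfreg, ⟨e⟩⟩ := hS
  set I := Ideal.ofList rs
  have := Groth.Ega4b.isNoetherianRing_cpl S
  have := Groth.Ega4Algebra1.isLocalRing_cpl_complete (S ⧸ I)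
  have : Nontrivial (S ⧸ I) := inferInstance
  let π₀ : C →+* EGA4.Cpl S := e.symm.toRingHom.comp (Ideal.Quotient.mk _)
  have hπ₀ : Function.Surjective π₀ := e.symm.surjective.comp Ideal.Quotient.mk_surjective
  have hker₀ : RingHom.ker π₀ = Ideal.ofList fs := by
    rw [RingHom.ker_equiv_comp, Ideal.mk_ker]
  choose g hg using fun s : S => hπ₀ (algebraMap S (EGA4.Cpl S) s)
  let π : C →+* EGA4.Cpl (S ⧸ I) := (Groth.Ega4b.cplQuot S I).comp π₀
  have hπ : Function.Surjective π := (Groth.Ega4b.cplQuot_surjective S I).comp hπ₀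
  have hI : I.map (algebraMap S (EGA4.Cpl S)) = (Ideal.ofList (rs.map g)).map π₀ := by
    rw [Ideal.map_ofList, Ideal.map_ofList, List.map_map]
    congr 1
    exact List.map_congr_left fun s _ => (hg s).symm
  have hker : RingHom.ker π = Ideal.ofList (fs ++ rs.map g) := by
    rw [← RingHom.comap_ker, Groth.Ega4b.ker_cplQuot, hI, Ideal.comap_map_of_surjective' _ hπ₀, hker₀,
      Ideal.ofList_append, sup_comm]
  have hmem : ∀ x ∈ fs ++ rs.map g, x ∈ maximalIdeal C := fun x hx =>
    le_maximalIdeal (RingHom.ker_ne_top π) (hker.ge (Ideal.subset_span hx))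
  rw [← isCompleteIntersection_cpl_iff, Groth.CI.isCompleteIntersection_iff_of_surjective π hπ]
  refine ⟨_, hker.symm, (isRegular_iff_isWeaklyRegular_of_subset_maximalIdeal hmem).mpr
    ((isWeaklyRegular_append_iff C fs _).mpr ⟨hfreg.toIsWeaklyRegular, ?_⟩)⟩
  have hcpl : IsWeaklyRegular (EGA4.Cpl S) (rs.map (algebraMap S (EGA4.Cpl S))) :=
    hreg.toIsWeaklyRegular.of_flat
  let e' : EGA4.Cpl S ≃+ C ⧸ (Ideal.ofList fs • ⊤ : Submodule C C) :=
    e.toAddEquiv.trans (Submodule.quotEquivOfEq _ _ (by rw [smul_eq_mul, Ideal.mul_top]) :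
      (C ⧸ Ideal.span {r | r ∈ fs}) ≃ₗ[C] C ⧸ (Ideal.ofList fs • ⊤ : Submodule C C)).toAddEquiv
  refine (AddEquiv.isWeaklyRegular_congr (e := e') (List.forall₂_map_left_iff.mpr
    (List.forall₂_map_right_iff.mpr (List.forall₂_same.mpr fun s _ x => ?_)))).mp hcpl
  obtain ⟨c, rfl⟩ := hπ₀ x
  show e' (algebraMap S (EGA4.Cpl S) s * π₀ c) = g s • e' (π₀ c)
  rw [← hg s, ← map_mul]
  simp [e', π₀]
  rfl

end Groth.FrobLCI.Avramov
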