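import Groth.Agent.FrobLCI.Avramov.Lift
import Groth.Agent.Ega41Flat.CohenRing
import Groth.Agent.Ega41Flat.PowerSeries
import Groth.Agent.Calg2.CompleteStructure
import Groth.Agent.Calg1.MiracleFlatness
import Groth.Agent.Calg4.RegularAscent
import Groth.Agent.CI.Criterion
import Groth.Agent.FibreDim.LocalRing

/-!
Compatible regular presentations of a local homomorphism of complete Noetherian local rings.
-/

universe u

open IsLocalRing MvPowerSeries

namespace Groth.FrobLCI.Avramov

/-- Two maps from a power series ring agreeing on coefficients and variables are equal. -/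
theorem ringHom_ext {Λ B : Type u} [CommRing Λ] [CommRing B] [IsLocalRing B] [IsNoetherianRing B] {n : ℕ}
    (g g' : MvPowerSeries (Fin n) Λ →+* B) (hC : ∀ l, g (C l) = g' (C l)) (hX : ∀ i, g (X i) = g' (X i))
    (hm : ∀ i, g (X i) ∈ maximalIdeal B) : g = g' := by
  ext x
  rw [← sub_eq_zero, ← Submodule.mem_bot (R := B), ← Ideal.iInf_pow_eq_bot_of_isLocalRing _
    (maximalIdeal.isMaximal B).ne_top, Submodule.mem_iInf]
  intro N
  have hx : x - (MvPowerSeries.truncTotal N x : MvPowerSeries (Fin n) Λ) ∈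
      Groth.SGA7.PS.varIdeal (Fin n) Λ ^ N := by
    refine Groth.SGA7.PS.mem_varIdeal_pow N _ fun d hd => ?_
    rw [map_sub, MvPolynomial.coeff_coe, MvPowerSeries.coeff_truncTotal _ hd, sub_self]
  have hpoly : g.comp MvPolynomial.coeToMvPowerSeries.ringHom = g'.comp MvPolynomial.coeToMvPowerSeries.ringHom :=
    MvPolynomial.ringHom_ext (fun l => by simp [hC]) (fun i => by simp [hX])
  have hle : ∀ h : MvPowerSeries (Fin n) Λ →+* B, (∀ i, h (X i) = g (X i)) →
      ∀ z ∈ Groth.SGA7.PS.varIdeal (Fin n) Λ ^ N, h z ∈ maximalIdeal B ^ N := by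
    intro h hh z hz
    have h1 := Ideal.mem_map_of_mem h hz
    rw [Ideal.map_pow] at h1
    refine Ideal.pow_right_mono ?_ N h1
    rw [Groth.SGA7.PS.varIdeal, Ideal.map_span, Ideal.span_le]
    rintro _ ⟨_, ⟨i, rfl⟩, rfl⟩
    rw [SetLike.mem_coe, hh]
    exact hm i
  have e := RingHom.congr_fun hpoly (MvPowerSeries.truncTotal N x)
  simp only [RingHom.comp_apply, MvPolynomial.coeToMvPowerSeries.ringHom_apply] at e
  have := Ideal.sub_mem _ (hle g (fun _ => rfl) _ hx) (hle g' (fun i => (hX i).symm) _ hx)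
  rwa [map_sub, map_sub, e, sub_sub_sub_cancel_right] at this

/-- The maximal ideal of a power series ring. -/
theorem maximalIdeal_eq_sup {Λ : Type u} [CommRing Λ] [IsRegularLocalRing Λ] (n : ℕ)
    [IsLocalRing (MvPowerSeries (Fin n) Λ)] :
    maximalIdeal (MvPowerSeries (Fin n) Λ) =
      (maximalIdeal Λ).map C ⊔ Ideal.span (Set.range (X : Fin n → MvPowerSeries (Fin n) Λ)) := by
  refine le_antisymm (fun g hg => ?_) (sup_le ?_ ?_)
  · have hcc : constantCoeff g ∈ maximalIdeal Λ := fun hu => hg (isUnit_iff_constantCoeff.2 hu)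
    rw [show g = C (constantCoeff g) + (g - C (constantCoeff g)) by ring]
    refine Submodule.add_mem_sup (Ideal.mem_map_of_mem C hcc) ?_
    have h0 : g - C (constantCoeff g) ∈ Groth.SGA7.PS.varIdeal (Fin n) Λ :=
      (Groth.SGA7.PS.mem_varIdeal_iff _).2 (by rw [map_sub, constantCoeff_C, sub_self])
    exact h0
  · rw [Ideal.map_le_iff_le_comap]
    intro l hl
    rw [Ideal.mem_comap, mem_maximalIdeal, mem_nonunits_iff, isUnit_iff_constantCoeff, constantCoeff_C]
    exact (mem_maximalIdeal l).mp hl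
  · rw [Ideal.span_le]
    rintro _ ⟨i, rfl⟩
    rw [SetLike.mem_coe, mem_maximalIdeal, mem_nonunits_iff, isUnit_iff_constantCoeff, constantCoeff_X]
    exact not_isUnit_zero

/-- Presentations from compatible coefficient rings. -/
theorem presentation_of_coeff {A B Λ Λ' : Type u} [CommRing A] [CommRing B] [IsLocalRing A] [IsLocalRing B]
    [IsNoetherianRing A] [IsNoetherianRing B] [IsAdicComplete (maximalIdeal A) A]
    [IsAdicComplete (maximalIdeal B) B] [CommRing Λ] [CommRing Λ'] [IsRegularLocalRing Λ] [IsRegularLocalRing Λ']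
    [IsAdicComplete (maximalIdeal Λ') Λ'] (f : A →+* B) [IsLocalHom f] (q : ℕ)
    (hm : maximalIdeal Λ = Ideal.span {(q : Λ)}) (hm' : maximalIdeal Λ' = Ideal.span {(q : Λ')})
    (hdim : ringKrullDim Λ = ringKrullDim Λ')
    (ι : Λ →+* A) (hι : Function.Surjective ((residue A).comp ι))
    (ι' : Λ' →+* B) (hι' : Function.Surjective ((residue B).comp ι'))
    (hlift : ∀ (C : Type u) [CommRing C] [IsLocalRing C] [IsNoetherianRing C] [IsAdicComplete (maximalIdeal C) C]
      (π : C →+* B), Function.Surjective π → ∃ g : Λ →+* C, π.comp g = f.comp ι) :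
    ∃ (R R' : Type u) (_ : CommRing R) (_ : CommRing R') (_ : IsRegularLocalRing R) (_ : IsRegularLocalRing R')
      (_ : Algebra R R') (_ : IsLocalHom (algebraMap R R')) (π : R →+* A) (π' : R' →+* B),
      Module.Flat R R' ∧ Function.Surjective π ∧ Function.Surjective π' ∧
      π'.comp (algebraMap R R') = f.comp π ∧
      IsRegularLocalRing (R' ⧸ (maximalIdeal R).map (algebraMap R R')) := by
  classical
  obtain ⟨n, a, ha⟩ := Submodule.fg_iff_exists_fin_generating_family.mp (IsNoetherian.noetherian (maximalIdeal A))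
  obtain ⟨m, b, hb⟩ := Submodule.fg_iff_exists_fin_generating_family.mp (IsNoetherian.noetherian (maximalIdeal B))
  have ham : ∀ i, a i ∈ maximalIdeal A := fun i => ha ▸ Submodule.subset_span ⟨i, rfl⟩
  have hbm : ∀ i, b i ∈ maximalIdeal B := fun i => hb ▸ Submodule.subset_span ⟨i, rfl⟩
  let R := MvPowerSeries (Fin n) Λ
  let R' := MvPowerSeries (Fin (n + m)) Λ'
  have hR : IsRegularLocalRing R := Groth.LocDual.isRegularLocalRing_mvPowerSeries Λ n
  have hR' : IsRegularLocalRing R' := Groth.LocDual.isRegularLocalRing_mvPowerSeries Λ' (n + m)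
  have hc' : IsAdicComplete (maximalIdeal R') R' := Groth.Ega41Flat.isAdicComplete_mvPowerSeries Λ' (n + m)
  let π : R →+* A := Groth.Calg2.CompleteStructure.ev ι a ham
  have hπ : Function.Surjective π :=
    Groth.Calg2.CompleteStructure.surjective_ev ι hι a ham ha
  let c : Fin (n + m) → B := Fin.append (f ∘ a) b
  have hcm : ∀ i, c i ∈ maximalIdeal B := fun i => by
    induction i using Fin.addCases with
    | left i =>
      simp only [c, Fin.append_left, Function.comp_apply]
      exact IsLocalRing.map_maximalIdeal_le f (Ideal.mem_map_of_mem f (ham i))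
    | right i => simp only [c, Fin.append_right]; exact hbm i
  let π' : R' →+* B := Groth.Calg2.CompleteStructure.ev ι' c hcm
  have hπ' : Function.Surjective π' := by
    refine Groth.Calg2.CompleteStructure.surjective_ev ι' hι' c hcm (le_antisymm (Ideal.span_le.mpr ?_) ?_)
    · rintro _ ⟨i, rfl⟩
      exact hcm i
    · refine hb.ge.trans (Ideal.span_mono ?_)
      rintro _ ⟨i, rfl⟩
      exact ⟨Fin.natAdd n i, by simp [c]⟩
  obtain ⟨g, hg⟩ := hlift R' π' hπ'
  have hXm : ∀ i : Fin (n + m), (X i : R') ∈ maximalIdeal R' := fun i => by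
    rw [maximalIdeal_eq_sup]
    exact Ideal.mem_sup_right (Ideal.subset_span ⟨i, rfl⟩)
  let j : R →+* R' := Groth.Calg2.CompleteStructure.ev g (fun i => X (Fin.castAdd m i)) fun i => hXm _
  have hjC : ∀ l, j (C l) = g l := fun l => Groth.Calg2.CompleteStructure.ev_C _ _ _ l
  have hjX : ∀ i, j (X i) = X (Fin.castAdd m i) := fun i => Groth.Calg2.CompleteStructure.ev_X _ _ _ i
  have hcomm : π'.comp j = f.comp π := by
    refine ringHom_ext _ _ (fun l => ?_) (fun i => ?_) fun i => ?_
    · simp only [RingHom.comp_apply, hjC]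
      rw [show π (C l) = ι l from Groth.Calg2.CompleteStructure.ev_C _ _ _ l]
      exact RingHom.congr_fun hg l
    · simp only [RingHom.comp_apply, hjX]
      rw [show π (X i) = a i from Groth.Calg2.CompleteStructure.ev_X _ _ _ i,
        show π' (X (Fin.castAdd m i)) = c (Fin.castAdd m i) from Groth.Calg2.CompleteStructure.ev_X _ _ _ _]
      simp [c]
    · simp only [RingHom.comp_apply, hjX]
      rw [show π' (X (Fin.castAdd m i)) = c (Fin.castAdd m i) from Groth.Calg2.CompleteStructure.ev_X _ _ _ _]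
      exact hcm _
  -- the image of the maximal ideal
  set M : Ideal R' := Ideal.span {(q : R')} ⊔ Ideal.span (Set.range fun i : Fin n => (X (Fin.castAdd m i) : R'))
  have hM : (maximalIdeal R).map j = M := by
    rw [maximalIdeal_eq_sup, Ideal.map_sup, Ideal.map_span, hm, Ideal.map_span, Set.image_singleton, Ideal.map_span,
      Set.image_singleton, map_natCast, map_natCast, ← Set.range_comp]
    exact congrArg (fun s => Ideal.span {(q : R')} ⊔ Ideal.span (Set.range s)) (funext hjX)
  have hqm : (q : R') ∈ maximalIdeal R' := by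
    rw [maximalIdeal_eq_sup]
    refine Ideal.mem_sup_left ?_
    rw [← map_natCast (C : Λ' →+* R')]
    exact Ideal.mem_map_of_mem _ (hm' ▸ Ideal.mem_span_singleton_self _)
  have hMle : M ≤ maximalIdeal R' := sup_le ((Ideal.span_singleton_le_iff_mem _).mpr hqm) (Ideal.span_le.mpr (by
    rintro _ ⟨i, rfl⟩
    exact hXm _))
  have hloc : IsLocalHom j := ((IsLocalRing.local_hom_TFAE j).out 2 0).mp (hM.le.trans hMle)
  letI := j.toAlgebra
  have : IsLocalHom (algebraMap R R') := hloc
  -- dimensions
  have hdR : ringKrullDim R = ringKrullDim Λ + n := Groth.Ega41Flat.ringKrullDim_mvPowerSeries_eq Λ n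
  have hdR' : ringKrullDim R' = ringKrullDim Λ + n + m := by
    rw [show ringKrullDim R' = ringKrullDim Λ' + ((n + m : ℕ) : WithBot ℕ∞) from
      Groth.Ega41Flat.ringKrullDim_mvPowerSeries_eq Λ' (n + m), ← hdim, Nat.cast_add, add_assoc]
  have hMtop : M ≠ ⊤ := ne_top_of_le_ne_top (maximalIdeal.isMaximal R').ne_top hMle
  have : Nontrivial (R' ⧸ M) := Ideal.Quotient.nontrivial_iff.mpr hMtop
  have : IsLocalRing (R' ⧸ M) := IsLocalRing.of_surjective' (Ideal.Quotient.mk M) Ideal.Quotient.mk_surjective
  have hdimle : ringKrullDim R' ≤ ringKrullDim R + ringKrullDim (R' ⧸ M) := by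
    rw [← hM]
    exact Groth.FibreDim.ringKrullDim_le_add_fibre R R'
  have hspan : maximalIdeal (R' ⧸ M) = Ideal.span (Set.range fun i : Fin m => Ideal.Quotient.mk M (X (Fin.natAdd n i))) := by
    rw [← IsLocalRing.map_maximalIdeal_of_surjective _ Ideal.Quotient.mk_surjective, maximalIdeal_eq_sup, hm',
      Ideal.map_sup, Ideal.map_span, Ideal.map_span, Set.image_singleton, Set.image_singleton, map_natCast,
      show Ideal.Quotient.mk M (q : R') = 0 from Ideal.Quotient.eq_zero_iff_mem.mpr
        (Ideal.mem_sup_left (Ideal.mem_span_singleton_self _)), Ideal.span_singleton_eq_bot.mpr rfl, bot_sup_eq,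
      Ideal.map_span]
    refine le_antisymm (Ideal.span_le.mpr ?_) (Ideal.span_mono ?_)
    · rintro _ ⟨_, ⟨i, rfl⟩, rfl⟩
      induction i using Fin.addCases with
      | left i =>
        have h0 : Ideal.Quotient.mk M (X (Fin.castAdd m i) : R') = 0 :=
          Ideal.Quotient.eq_zero_iff_mem.mpr (Ideal.mem_sup_right (Ideal.subset_span ⟨i, rfl⟩))
        rw [SetLike.mem_coe, h0]
        exact Ideal.zero_mem _
      | right i => exact Ideal.subset_span ⟨i, rfl⟩
    · rintro _ ⟨i, rfl⟩
      exact ⟨_, ⟨_, rfl⟩, rfl⟩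
  have hsr : ((maximalIdeal (R' ⧸ M)).spanFinrank : WithBot ℕ∞) ≤ m := by
    rw [hspan]
    refine Nat.cast_le.mpr ((Submodule.spanFinrank_span_le_ncard_of_finite (Set.finite_range _)).trans ?_)
    rw [← Set.image_univ]
    exact (Set.ncard_image_le (Set.finite_univ)).trans (by simp)
  obtain ⟨e, he⟩ : ∃ e : ℕ, ringKrullDim (R' ⧸ M) = e := Groth.CI.exists_nat_ringKrullDim _
  obtain ⟨s, hs⟩ : ∃ s : ℕ, ringKrullDim Λ = s := Groth.CI.exists_nat_ringKrullDim _
  have hup : ringKrullDim (R' ⧸ M) ≤ (maximalIdeal (R' ⧸ M)).spanFinrank :=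
    ringKrullDim_le_spanFinrank_maximalIdeal _
  have hem : e = m := by
    have h1 := hup.trans hsr
    rw [hdR', hdR, hs, he] at hdimle
    rw [he] at h1
    norm_cast at h1 hdimle
    omega
  have hregF : IsRegularLocalRing (R' ⧸ M) :=
    IsRegularLocalRing.of_spanFinrank_maximalIdeal_le _ (hsr.trans (by rw [he, hem]))
  have hCM : LocCoh.IsCohenMacaulayLocalRing R' := Groth.Calg4.isCohenMacaulayLocalRing_of_isRegularLocalRing R'
  have hflat : Module.Flat R R' := by
    refine Groth.Calg1.flat_of_isRegularLocalRing_of_isCohenMacaulay R R' ?_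
    rw [show (maximalIdeal R).map (algebraMap R R') = M from hM, hdR', hdR, hs, he, hem]
  refine ⟨R, R', inferInstance, inferInstance, hR, hR', j.toAlgebra, hloc, π, π', hflat, hπ, hπ', hcomm, ?_⟩
  rw [show (maximalIdeal R).map (algebraMap R R') = M from hM]
  exact hregF

/-- Compatible regular presentations. -/
theorem exists_presentation {A B : Type u} [CommRing A] [CommRing B] [IsLocalRing A] [IsLocalRing B]
    [IsNoetherianRing A] [IsNoetherianRing B] [IsAdicComplete (maximalIdeal A) A]
    [IsAdicComplete (maximalIdeal B) B] (f : A →+* B) [IsLocalHom f] :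
    ∃ (R R' : Type u) (_ : CommRing R) (_ : CommRing R') (_ : IsRegularLocalRing R) (_ : IsRegularLocalRing R')
      (_ : Algebra R R') (_ : IsLocalHom (algebraMap R R')) (π : R →+* A) (π' : R' →+* B),
      Module.Flat R R' ∧ Function.Surjective π ∧ Function.Surjective π' ∧
      π'.comp (algebraMap R R') = f.comp π ∧
      IsRegularLocalRing (R' ⧸ (maximalIdeal R).map (algebraMap R R')) := by
  classical
  obtain ⟨p, hp⟩ := CharP.exists (ResidueField A)
  have hpB : CharP (ResidueField B) p := charP_of_injective_ringHom (ResidueField.map f).injective p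
  rcases CharP.char_is_prime_or_zero (ResidueField A) p with hprime | rfl
  · have := Fact.mk hprime
    obtain ⟨Λ, _, _, hW, ⟨e⟩⟩ := Groth.Calg2.CohenRing.exists_cohenRing p (ResidueField A)
    obtain ⟨Λ', _, _, hW', ⟨e'⟩⟩ := Groth.Calg2.CohenRing.exists_cohenRing p (ResidueField B)
    obtain ⟨ι, hι⟩ := Groth.Ega41Flat.exists_lift_cohenRing hW e.toRingHom
    obtain ⟨ι', hι'⟩ := Groth.Ega41Flat.exists_lift_cohenRing hW' e'.toRingHom
    have key : ∀ (W : Type u) [CommRing W] [IsLocalRing W], CAlg.IsCohenRing W →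
        ∀ (K : Type u) [Field K] [CharP K p], Nonempty (ResidueField W ≃+* K) →
        maximalIdeal W = Ideal.span {(p : W)} ∧ IsRegularLocalRing W ∧ ringKrullDim W = 1 ∧
          IsAdicComplete (maximalIdeal W) W ∧ ∀ x : W, (p : W) * x = 0 → x = 0 := by
      intro W _ _ hW K _ _ ⟨e⟩
      obtain ⟨hdom, hdvr, hcomp, q, hq, hmq⟩ := hW
      have hqK : (q : K) = 0 := by
        rw [← map_natCast e, ← map_natCast (residue W),
          (residue_eq_zero_iff _).2 (hmq ▸ Ideal.mem_span_singleton_self _), map_zero]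
      obtain rfl : q = p := ((Nat.prime_dvd_prime_iff_eq hprime hq).mp ((CharP.cast_eq_zero_iff K p q).mp hqK)).symm
      have hp0 : (q : W) ≠ 0 := fun h0 => IsDiscreteValuationRing.not_a_field W (by
        rw [hmq, h0]; exact Ideal.span_singleton_eq_bot.2 rfl)
      exact ⟨hmq, inferInstance, IsPrincipalIdealRing.ringKrullDim_eq_one W (IsDiscreteValuationRing.not_isField W),
        hcomp, fun x hx => (mul_eq_zero.1 hx).resolve_left hp0⟩
    obtain ⟨hm, hreg, hd, -, hnz⟩ := key Λ hW (ResidueField A) ⟨e⟩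
    obtain ⟨hm', hreg', hd', hc', -⟩ := key Λ' hW' (ResidueField B) ⟨e'⟩
    have : (Ideal.span {(p : Λ)}).IsMaximal := hm ▸ maximalIdeal.isMaximal Λ
    have hpB' : (p : B) ∈ maximalIdeal B := by
      rw [← residue_eq_zero_iff, map_natCast]; exact CharP.cast_eq_zero _ p
    refine presentation_of_coeff f p hm hm' (hd.trans hd'.symm) ι (fun y => ?_) ι' (fun y => ?_)
      fun C _ _ _ _ π hπ => exists_lift_cohen p hnz π hπ (f.comp ι) hpB'
    · obtain ⟨w, hw⟩ := residue_surjective (e.symm y)
      exact ⟨w, by rw [RingHom.comp_apply, hι, hw]; exact e.apply_symm_apply y⟩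
    · obtain ⟨w, hw⟩ := residue_surjective (e'.symm y)
      exact ⟨w, by rw [RingHom.comp_apply, hι', hw]; exact e'.apply_symm_apply y⟩
  · have := CharP.charP_to_charZero (ResidueField A)
    have := CharP.charP_to_charZero (ResidueField B)
    obtain ⟨s, hs⟩ := Groth.Calg1.exists_section A
    obtain ⟨s', hs'⟩ := Groth.Calg1.exists_section B
    have hbot : ∀ (K : Type u) [Field K], maximalIdeal K = Ideal.span {((0 : ℕ) : K)} := fun K _ => by
      rw [Nat.cast_zero, Ideal.span_singleton_eq_bot.mpr rfl]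
      exact IsLocalRing.isField_iff_maximalIdeal_eq.mp (Field.toIsField K)
    have : IsAdicComplete (maximalIdeal (ResidueField B)) (ResidueField B) := by
      rw [IsLocalRing.isField_iff_maximalIdeal_eq.mp (Field.toIsField (ResidueField B))]
      infer_instance
    refine presentation_of_coeff f 0 (hbot _) (hbot _) (by rw [ringKrullDim_eq_zero_of_field, ringKrullDim_eq_zero_of_field])
      s (fun y => ⟨y, RingHom.congr_fun hs y⟩) s' (fun y => ⟨y, RingHom.congr_fun hs' y⟩)
      fun C _ _ _ _ π hπ => exists_lift_field π hπ (f.comp s)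

end Groth.FrobLCI.Avramov
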